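import Cfsg.Agent.H468.K6.Tools
import Cfsg.Agent.CpAutHN.Pairs

/-!
# S4876, `p = 3`: the row of the Harada-Norton group (helper387)

Elements of `A12 ≤ HN`: `X1 = (9 10 11)` (weight 2), `X3 = (0 1 2)(3 4 5)(6 7 8)` (weight 2, the centraliser has 2-rank one)
and a 9-cycle.
-/

set_option autoImplicit false
set_option maxRecDepth 20000

open Cfsg

namespace Cfsg.Agent.H387.K6.HN

open Cfsg.Agent.H61.K6 Cfsg.Agent.H121.K6 Cfsg.Agent.H468.K6
open Cfsg.Agent
open Cfsg.Agent.HN.XWords (W0 W0_sq)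
open Cfsg.Agent.KFacts.HN (W0_ne)
open Cfsg.Agent.CpAutHN.Alt (A12 Φ Φ_inj cy t2 t2_mem s1 s1_mem x1 x1_mem x3 x3_mem y3 y3_mem s3 s3_mem)
open Cfsg.Agent.CpAutHN.Pairs
open Equiv.Perm (mem_alternatingGroup)
open Subgroup

universe u v

theorem card_hn : Nat.card Spor.HN = 273030912000000 := Cfsg.Agent.S1701.result.2

theorem finite_hn : Finite Spor.HN := Nat.finite_of_card_ne_zero (by rw [card_hn]; norm_num)

/-- `(0 1 2)` -/
def ka : Equiv.Perm (Fin 12) := cy [0, 1, 2]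
/-- `(0 1)(3 4)` -/
def kb : Equiv.Perm (Fin 12) := cy [0, 1] * cy [3, 4]
/-- the 9-cycle -/
def kc : Equiv.Perm (Fin 12) := cy [0, 1, 2, 3, 4, 5, 6, 7, 8]

theorem ka_mem : ka ∈ alternatingGroup (Fin 12) := by rw [mem_alternatingGroup]; decide +kernel
theorem kb_mem : kb ∈ alternatingGroup (Fin 12) := by rw [mem_alternatingGroup]; decide +kernel
theorem kc_mem : kc ∈ alternatingGroup (Fin 12) := by rw [mem_alternatingGroup]; decide +kernel

theorem inv_of {f g : Equiv.Perm (Fin 12)} (hf : f ∈ alternatingGroup (Fin 12)) (hg : g ∈ alternatingGroup (Fin 12))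
    (h : f * g * f⁻¹ = g⁻¹) : Φ ⟨f, hf⟩ * Φ ⟨g, hg⟩ * (Φ ⟨f, hf⟩)⁻¹ = (Φ ⟨g, hg⟩)⁻¹ := by
  rw [← map_inv, ← map_inv, ← map_mul, ← map_mul]
  exact congrArg _ (Subtype.ext h)

theorem cube {x : Spor.HN} (h : orderOf x = 3) : x ^ 3 ^ 1 = 1 := by rw [pow_one, ← h, pow_orderOf_eq_one]

theorem ne_one {x : Spor.HN} (h : orderOf x = 3) : x ≠ 1 := by
  rintro rfl
  rw [orderOf_one] at h
  norm_num at h

theorem wt_one : wt 3 X1 = 2 := by
  have := finite_hn
  have h3 : orderOf (Φ ⟨ka, ka_mem⟩) = 3 := orderOf_three ka_mem (by decide +kernel) (by decide +kernel)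
  exact wt_eq_two_of_inv Nat.prime_three (by norm_num) (k := 1) (y := Φ ⟨ka, ka_mem⟩) (n := Φ ⟨kb, kb_mem⟩)
    (comm_of ka_mem x1_mem (by decide +kernel)) (comm_of kb_mem x1_mem (by decide +kernel)) (cube h3) (ne_one h3)
    (inv_of kb_mem ka_mem (by decide +kernel))

theorem wt_three : wt 3 X3 = 2 := by
  have := finite_hn
  have h3 : orderOf (Φ ⟨y3, y3_mem⟩) = 3 := orderOf_three y3_mem (by decide +kernel) (by decide +kernel)
  exact wt_eq_two_of_inv Nat.prime_three (by norm_num) (k := 1) (y := Φ ⟨y3, y3_mem⟩) (n := Φ ⟨s3, s3_mem⟩)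
    (comm_of y3_mem x3_mem (by decide +kernel)) (comm_of s3_mem x3_mem (by decide +kernel)) (cube h3) (ne_one h3)
    (inv_of s3_mem y3_mem (by decide +kernel))

/-- the centraliser of `X3` has 2-rank one -/
theorem one_X3 : Cfsg.Agent.CpAutHN.RankOne.One ↥(centralizer ({X3} : Set Spor.HN)) := by
  have := finite_hn
  have hc : X3 * S3 = S3 * X3 := comm_of x3_mem s3_mem (by decide +kernel)
  have hs' : orderOf (⟨S3, mem_centralizer_singleton_iff.2 hc.symm⟩ : ↥(centralizer ({X3} : Set Spor.HN))) = 2 := by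
    rw [← Subgroup.orderOf_coe]; exact order_S3
  refine (Cfsg.Agent.CpAutTh.RankOne.uInv_of_unique hs' ?_).1
  intro u hu hus
  apply Subtype.ext
  exact t1_x3.unique (by rw [Subgroup.orderOf_coe]; exact hu) (mem_centralizer_singleton_iff.1 u.2)
    (congrArg Subtype.val hus)

theorem ne_X (σ : Spor.HN ≃* Spor.HN) : σ X1 ≠ X3 := by
  intro h
  have ha : orderOf (Φ ⟨t2, t2_mem⟩) = 2 := orderOf_two t2_mem (by decide +kernel) (by decide +kernel)
  have hb : orderOf (Φ ⟨s1, s1_mem⟩) = 2 := orderOf_two s1_mem (by decide +kernel) (by decide +kernel)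
  have hc : ∀ {f : Equiv.Perm (Fin 12)} (hf : f ∈ alternatingGroup (Fin 12)), f * x1 = x1 * f →
      σ (Φ ⟨f, hf⟩) ∈ centralizer ({X3} : Set Spor.HN) := by
    intro f hf hfx
    rw [mem_centralizer_singleton_iff, ← h, ← map_mul, ← map_mul]
    exact congrArg σ (comm_of hf x1_mem hfx)
  have h1 := one_X3 ⟨_, hc t2_mem (by decide +kernel)⟩ ⟨_, hc s1_mem (by decide +kernel)⟩
    (by rw [← Subgroup.orderOf_coe, Subgroup.coe_mk, MulEquiv.orderOf_eq]; exact ha)
    (by rw [← Subgroup.orderOf_coe, Subgroup.coe_mk, MulEquiv.orderOf_eq]; exact hb)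
    (Subtype.ext (by
      show σ (Φ ⟨t2, t2_mem⟩) * σ (Φ ⟨s1, s1_mem⟩) = σ (Φ ⟨s1, s1_mem⟩) * σ (Φ ⟨t2, t2_mem⟩)
      rw [← map_mul σ, ← map_mul σ]
      exact congrArg σ (comm_of t2_mem s1_mem (by decide +kernel))))
  have h2 : (⟨t2, t2_mem⟩ : A12) = ⟨s1, s1_mem⟩ := Φ_inj (σ.injective (congrArg Subtype.val h1))
  exact absurd (congrArg Subtype.val h2) (by show ¬ t2 = s1; decide +kernel)

theorem kc_three : ¬ kc ^ 3 = 1 := by decide +kernel
theorem kc_nine : kc ^ 9 = 1 := by decide +kernel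

theorem order_nine : orderOf (Φ ⟨kc, kc_mem⟩) = 3 ^ 2 := by
  have : Fact (Nat.Prime 3) := ⟨Nat.prime_three⟩
  rw [orderOf_injective Φ Φ_inj]
  refine orderOf_eq_prime_pow (n := 1) ?_ ?_
  · intro h
    have h2 := congrArg Subtype.val h
    rw [Subgroup.coe_pow, Subgroup.coe_one, pow_one, Subgroup.coe_mk] at h2
    exact kc_three h2
  · apply Subtype.ext
    rw [Subgroup.coe_pow, Subgroup.coe_one, Subgroup.coe_mk]
    exact kc_nine

theorem krow : KRow.{u, 0} 3 Spor.HN := by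
  have := finite_hn
  have hs : IsSimpleGroup Spor.HN := Cfsg.Agent.S1701.result.1
  have hf : Fact (Nat.Prime 3) := ⟨Nat.prime_three⟩
  have hna : ∃ a b : Spor.HN, a * b ≠ b * a := by
    refine ⟨Φ ⟨kb, kb_mem⟩, Φ ⟨ka, ka_mem⟩, fun h => ?_⟩
    have h1 : kb * ka = ka * kb := by
      rw [← map_mul, ← map_mul] at h
      exact congrArg Subtype.val (Φ_inj h)
    exact absurd h1 (by decide +kernel)
  refine krow_three (c := Φ ⟨kc, kc_mem⟩) (not_compl_of_simple hna (by rw [card_hn]; norm_num))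
    (el_of_prime Nat.prime_three order_X1) (el_of_prime Nat.prime_three order_X3)
    (el_of_order (k := 2) Nat.prime_three (by norm_num) order_nine) ne_X
    (ne_of_order (by rw [order_X1, order_nine]; norm_num)) (ne_of_order (by rw [order_X3, order_nine]; norm_num))
    (na := 2) (nb := 2) (nc := 1) ?_ ?_ (wtGe_one _) (by norm_num)
  · rw [← wt_one]
    exact wtGe_wt _
  · rw [← wt_three]
    exact wtGe_wt _

/-- **`HN`, `p = 3`.** -/
theorem _root_.Cfsg.Agent.H387.K6.hn_three {X : Type v} [Group X] (h : Spor.IsoHN X) : KRow.{u, v} 3 X := by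
  obtain ⟨e⟩ := h
  exact KRow.congr e.symm krow

end Cfsg.Agent.H387.K6.HN
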