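import Cfsg.Agent.H468.K6.Tools
import Cfsg.Agent.H80.K6.Crit
import Cfsg.Agent.H820.K6.Loc
import Cfsg.Agent.H404.K6.CritT
import Cfsg.Agent.H978.TZ.Suz
import Cfsg.Agent.H299.K4.SuzX
import Cfsg.Agent.H812.SuzFive
import Cfsg.Agent.H812.FiveKey
import Cfsg.Prelude.Def_BlockRank

/-!
# S4876, `p = 5`: the row of the Suzuki group (helper387)

Two classes of elements of order five (2 and 12 fixed points on 1782 points), both of weight 2, and the characters of
degrees 1, 143 and 1001 of the principal block are linearly independent on the 5-regular elements.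
-/

set_option autoImplicit false
set_option maxRecDepth 100000
set_option linter.unusedSectionVars false

open Cfsg

namespace Cfsg.Agent.H387.K6.Suz5

open Cfsg.Agent.H61.K6 Cfsg.Agent.H121.K6 Cfsg.Agent.H468.K6 Cfsg.Agent.H80.K6
open Subgroup Cfsg.Agent.Characters.Core Cfsg.Agent.Blocks.Local
open Cfsg.Spor (Suz)
open Cfsg.Agent.Lib.PermNet Cfsg.Agent.Lib.PermNetOrbit Cfsg.Agent.SporadicRecognition.SuzPhi
  Cfsg.Agent.SporadicRecognition.SuzBound Cfsg.Agent.SporadicRecognition.SuzOrder
  Cfsg.Agent.SuzThree.Basic Cfsg.Agent.CpAutSuz.Fix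
open Cfsg.Agent.SporRec.SuzCl (Fx)
open Cfsg.Agent.H978.TZ.Suzuki

universe u v

/-! ### rank three -/

/-- three characters, linearly independent on the `p`-regular elements -/
theorem three_le {G : Type u} [Group G] [Finite G] {p : ℕ} {B : Set (IrrCharacter G)} {one χ ψ : IrrCharacter G}
    (h1 : one ∈ B) (ho : ∀ g, (one : G → ℂ) g = 1) (hχ : χ ∈ B) (hψ : ψ ∈ B) {a b : G} (hr : IsPRegular p (1 : G))
    (ha : IsPRegular p a) (hb : IsPRegular p b) (e1 : (χ : G → ℂ) a = 0) (e2 : (ψ : G → ℂ) a = 0)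
    (e3 : (ψ : G → ℂ) b = 0) (e4 : (χ : G → ℂ) b ≠ 0) (e5 : (ψ : G → ℂ) 1 ≠ 0) : 3 ≤ blockRank p B := by
  classical
  have hfin : Finite (IrrCharacter G) := finite_irr
  obtain ⟨V, hV⟩ : ∃ V : Submodule ℂ (G → ℂ), V = Submodule.span ℂ
    ((fun χ : IrrCharacter G => pRegularPart p (χ : G → ℂ)) '' B) := ⟨_, rfl⟩
  have hVf : Module.Finite ℂ V := by
    rw [hV]
    exact FiniteDimensional.span_of_finite ℂ (Set.toFinite _)
  have hmem : ∀ φ ∈ B, pRegularPart p (φ : G → ℂ) ∈ V := fun φ hφ => by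
    rw [hV]
    exact Submodule.subset_span ⟨φ, hφ, rfl⟩
  have hval : ∀ (f : G → ℂ) (g : G), IsPRegular p g → pRegularPart p f g = f g := fun f g hg => by
    unfold pRegularPart
    rw [if_pos hg]
  have hli : LinearIndependent ℂ ![pRegularPart p (one : G → ℂ), pRegularPart p (χ : G → ℂ),
      pRegularPart p (ψ : G → ℂ)] := by
    rw [Fintype.linearIndependent_iff]
    intro s hs
    rw [Fin.sum_univ_three] at hs
    have k1 := congrFun hs 1
    have k2 := congrFun hs a
    have k3 := congrFun hs b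
    simp only [Matrix.cons_val_zero, Matrix.cons_val_one, Matrix.cons_val_two, Matrix.head_cons, Matrix.tail_cons,
      Pi.add_apply, Pi.smul_apply, smul_eq_mul, Pi.zero_apply, hval _ _ hr, hval _ _ ha, hval _ _ hb,
      ho, e1, e2, e3, mul_one, mul_zero, add_zero] at k1 k2 k3
    rw [k2, zero_add] at k3
    have t1 : s 1 = 0 := (mul_eq_zero.1 k3).resolve_right e4
    rw [k2, t1, zero_mul, zero_add, zero_add] at k1
    have t2 : s 2 = 0 := (mul_eq_zero.1 k1).resolve_right e5
    intro i
    fin_cases i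
    · exact k2
    · exact t1
    · exact t2
  have hle : Submodule.span ℂ (Set.range ![pRegularPart p (one : G → ℂ), pRegularPart p (χ : G → ℂ),
      pRegularPart p (ψ : G → ℂ)]) ≤ V := by
    rw [Submodule.span_le]
    rintro _ ⟨i, rfl⟩
    fin_cases i
    · exact hmem one h1
    · exact hmem χ hχ
    · exact hmem ψ hψ
  have h2 := Submodule.finrank_mono hle
  rw [finrank_span_eq_card hli] at h2
  unfold blockRank
  rw [← hV]
  simpa using h2

/-! ### the elements -/

/-- an element of order five with 2 fixed points -/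
def xw : List Suz.Gen := [.a, .b]

/-- an element of order five with 12 fixed points -/
def yw : List Suz.Gen := [.c, .b, .d, .c, .d, .c, .b, .a, .b, .c, .d, .e, .a, .b, .c, .b, .a, .b, .a]

theorem x5 : el xw ^ 5 = 1 := by
  rw [el_pow]
  exact eq_of_reps (Rep.el _) Rep.one (by decide +kernel)

theorem y5 : el yw ^ 5 = 1 := by
  rw [el_pow]
  exact eq_of_reps (Rep.el _) Rep.one (by decide +kernel)

theorem fx : (Fx (el xw)).card = 2 := card_Fx_rep (Rep.el _) (by decide +kernel)
theorem fy : (Fx (el yw)).card = 12 := card_Fx_rep (Rep.el _) (by decide +kernel)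

theorem fone : (Fx (1 : Suz)).card = 1782 := card_Fx_rep Rep.one (by decide +kernel)

theorem x_ne : el xw ≠ 1 := by
  intro h
  have h1 := fx
  rw [h, fone] at h1
  omega

theorem y_ne : el yw ≠ 1 := by
  intro h
  have h1 := fy
  rw [h, fone] at h1
  omega

theorem xy : el xw * el yw = el yw * el xw := by
  rw [← el_append, ← el_append]
  exact eq_of_reps (Rep.el _) (Rep.el _) (by decide +kernel)

theorem ay : el [.a] * el yw = el yw * el [.a] := by
  rw [← el_append, ← el_append]
  exact eq_of_reps (Rep.el _) (Rep.el _) (by decide +kernel)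

theorem ex : el [.e] * el xw = el xw * el [.e] := by
  rw [← el_append, ← el_append]
  exact eq_of_reps (Rep.el _) (Rep.el _) (by decide +kernel)

theorem ax : el [.a] * el xw * (el [.a])⁻¹ = (el xw)⁻¹ := by
  rw [← el_reverse, ← el_reverse, ← el_append, ← el_append]
  exact eq_of_reps (Rep.el _) (Rep.el _) (by decide +kernel)

theorem ey : el [.e] * el yw * (el [.e])⁻¹ = (el yw)⁻¹ := by
  rw [← el_reverse, ← el_reverse, ← el_append, ← el_append]
  exact eq_of_reps (Rep.el _) (Rep.el _) (by decide +kernel)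

theorem wt_x : wt 5 (el xw) = 2 := by
  have := finS
  exact wt_eq_two_of_inv (by norm_num) (by norm_num) (k := 1) (y := el yw) (n := el [.e]) xy.symm ex
    (by rw [pow_one]; exact y5) y_ne ey

theorem wt_y : wt 5 (el yw) = 2 := by
  have := finS
  exact wt_eq_two_of_inv (by norm_num) (by norm_num) (k := 1) (y := el xw) (n := el [.a]) xy ay
    (by rw [pow_one]; exact x5) x_ne ax

theorem not_aut (σ : Suz ≃* Suz) : σ (el xw) ≠ el yw := by
  intro h
  have h1 := card_Fx_aut σ (el xw)
  rw [fx] at h1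
  have h2 := fy
  rw [← h] at h2
  omega

theorem not_aut' (σ : Suz ≃* Suz) : σ (el yw) ≠ el xw := by
  intro h
  have h1 := card_Fx_aut σ (el yw)
  rw [fy] at h1
  have h2 := fx
  rw [← h] at h2
  omega

theorem not_of_wt {x : Suz} (h : wt 5 x = 2) : ¬ HasNormalPComplement 5 ↥(centralizer ({x} : Set Suz)) := by
  intro h1
  unfold wt at h
  rw [if_pos h1] at h
  omega

/-! ### the principal block -/

theorem exists_sylow : ∃ P : Sylow 5 Suz, centralizer ((P : Subgroup Suz) : Set Suz) = P := by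
  have hp5 : Fact (Nat.Prime 5) := ⟨by norm_num⟩
  have hfin := finS
  obtain ⟨P⟩ : Nonempty (Sylow 5 Suz) := inferInstance
  have hP25 : Nat.card (P : Subgroup Suz) = 25 := by
    have := J2Type.SylowSeven.card_sylow P 2 17933819904 (by rw [card_Suz]; norm_num) (by norm_num)
    rw [this]; norm_num
  obtain ⟨g, hg⟩ := J2Type.SylowFive.exists_conj_mem_sylow P (y := H812.SuzLoc.x5) (n := 1)
    (by rw [H812.SuzLoc.order_x5]; norm_num)
  have hgood := H812.SuzFive.good_x5.conj g
  exact ⟨P, (H812.FiveKey.key hP25 hgood hg).1⟩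

theorem cp : H404.K6.CP 5 Suz := by
  have := finS
  have : Fact (Nat.Prime 5) := ⟨by norm_num⟩
  obtain ⟨P, hP⟩ := exists_sylow
  refine ⟨P, fun z hz => ?_⟩
  rw [hP] at hz
  obtain ⟨k, hk⟩ := (IsPGroup.iff_orderOf.1 P.isPGroup') ⟨z, hz⟩
  exact ⟨k, by rw [← hk, Subgroup.orderOf_mk]⟩

/-- the character of degree 143 -/
theorem exists_143 : ∃ α : IrrCharacter Suz, charDegree (α : Suz → ℂ) = 143 := by
  have := finS
  obtain ⟨ψ, h1, h2, -⟩ := H299.K4.SuzX.exists_143
  obtain ⟨e⟩ := H299.K4.SuzX.isoX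
  refine ⟨⟨ψ ∘ e.symm, isIrr_comp e.symm.toMonoidHom e.symm.surjective h1⟩, ?_⟩
  refine Cfsg.Agent.H670.PSing.charDegree_eq_of ?_
  show ψ (e.symm 1) = (143 : ℕ)
  rw [map_one, h2]
  norm_num

theorem rank_ge (M : Ideal AlgInt) (hM : IsPModular 5 M) : 3 ≤ blockRank 5 (principalBlock M Suz) := by
  classical
  have hfin := finS
  have h5 : Fact (Nat.Prime 5) := ⟨by norm_num⟩
  have h7 : Fact (Nat.Prime 7) := ⟨by norm_num⟩
  have h11 : Fact (Nat.Prime 11) := ⟨by norm_num⟩
  obtain ⟨χ, hχ⟩ := exists_143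
  obtain ⟨-, ψ, -, hψ1, -⟩ := exists_chars
  have hψ : charDegree (ψ : Suz → ℂ) = 1001 := Cfsg.Agent.H670.PSing.charDegree_eq_of (by rw [hψ1]; norm_num)
  obtain ⟨a, ha⟩ := exists_prime_orderOf_dvd_card' (G := Suz) 11 (by rw [card_Suz]; norm_num)
  obtain ⟨b, hb⟩ := exists_prime_orderOf_dvd_card' (G := Suz) 7 (by rw [card_Suz]; norm_num)
  have reg : ∀ {n : ℕ} {g : Suz}, orderOf g = n → ¬ 5 ∣ n → IsPRegular 5 g := by
    intro n g h1 h2 h3
    rw [h1] at h3
    exact h2 h3
  refine three_le (one := ⟨fun _ => 1, isIrr_one⟩) (χ := χ) (ψ := ψ) (a := a) (b := b) ?_ (fun _ => rfl)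
    (H404.K6.mem_of_degree hM cp χ (by rw [hχ]; norm_num)) (H404.K6.mem_of_degree hM cp ψ (by rw [hψ]; norm_num))
    (reg orderOf_one (by norm_num)) (reg ha (by norm_num)) (reg hb (by norm_num))
    (H978.TZ.zero_of_dvd (p := 11) (by norm_num) (by rw [card_Suz]; norm_num) (by rw [hχ]; norm_num) (by rw [ha]))
    (H978.TZ.zero_of_dvd (p := 11) (by norm_num) (by rw [card_Suz]; norm_num) (by rw [hψ]; norm_num) (by rw [ha]))
    (H978.TZ.zero_of_dvd (p := 7) (by norm_num) (by rw [card_Suz]; norm_num) (by rw [hψ]; norm_num) (by rw [hb]))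
    ?_ (by rw [hψ1]; norm_num)
  · rw [← H703.Lat.mem_B0]
    exact H703.Lat.one_mem_B0 hM
  · intro h0
    obtain ⟨M1, hM1⟩ := Cfsg.Agent.Blocks.Knorr.exists_isPModular 7
    have h1 : IsPPart 7 b b := ⟨1, mul_one b, Commute.one_right b, ⟨1, by rw [hb, pow_one]⟩, by
      rw [orderOf_one]
      norm_num⟩
    have h2 := CharactersDeep.ModCongr.memLocalIdeal_character_sub hM1 χ.2 b b h1
    rw [inv_mul_cancel, h0, zero_sub, Blocks.Basic.irr_one_eq_charDegree χ.2, hχ] at h2
    have h3 : MemLocalIdeal M1 ((-143 : ℤ) : ℂ) := by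
      push_cast
      push_cast at h2
      exact h2
    rw [memLocalIdeal_intCast_iff hM1] at h3
    norm_num at h3

theorem seven (M : Ideal AlgInt) (hM : IsPModular 5 M) : 7 ≤ Nat.card (principalBlock M Suz) := by
  classical
  have hfin := finS
  have h5 : Fact (Nat.Prime 5) := ⟨by norm_num⟩
  have hne : el xw ≠ el yw := fun h => not_aut (MulEquiv.refl _) h
  refine H820.K6.card_ge (p := 5) {el xw, el yw} (fun y hy => ?_) (fun y hy z hz hc => ?_) (fun _ => 2) (fun y hy => ?_) hM
    (m := 3) (rank_ge M hM) ?_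
  · simp only [Finset.mem_insert, Finset.mem_singleton] at hy
    rcases hy with rfl | rfl
    · exact el_of_prime h5.out (orderOf_eq_prime x5 x_ne)
    · exact el_of_prime h5.out (orderOf_eq_prime y5 y_ne)
  · simp only [Finset.mem_insert, Finset.mem_singleton] at hy hz
    obtain ⟨c, hc⟩ := isConj_iff.1 hc
    rcases hy with rfl | rfl <;> rcases hz with rfl | rfl
    · rfl
    · exact absurd hc (not_aut (MulAut.conj c))
    · exact absurd hc (not_aut' (MulAut.conj c))
    · rfl
  · simp only [Finset.mem_insert, Finset.mem_singleton] at hy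
    rcases hy with rfl | rfl
    · exact H820.K6.WX.two (not_of_wt wt_x)
    · exact H820.K6.WX.two (not_of_wt wt_y)
  · rw [Finset.sum_pair hne]
    norm_num

theorem krow : KRow.{u, 0} 5 Suz := by
  classical
  have hfin := finS
  have h5 : Fact (Nat.Prime 5) := ⟨by norm_num⟩
  have hne : el xw ≠ el yw := fun h => not_aut (MulEquiv.refl _) h
  refine KRow.of_two (p := 5) ?_ seven {el xw, el yw} (fun y hy => ?_) (fun y hy z hz σ hc => ?_) (fun _ => 2)
    (fun y hy => ?_) ?_
  · intro h
    exact not_of_wt wt_x (H634.ZJ.hasNormalPComplement_of_injective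
      (Subgroup.subtype (centralizer ({el xw} : Set Suz))) (Subgroup.subtype_injective _) h)
  · simp only [Finset.mem_insert, Finset.mem_singleton] at hy
    rcases hy with rfl | rfl
    · exact el_of_prime h5.out (orderOf_eq_prime x5 x_ne)
    · exact el_of_prime h5.out (orderOf_eq_prime y5 y_ne)
  · simp only [Finset.mem_insert, Finset.mem_singleton] at hy hz
    rcases hy with rfl | rfl <;> rcases hz with rfl | rfl
    · rfl
    · exact absurd hc (not_aut σ)
    · exact absurd hc (not_aut' σ)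
    · rfl
  · simp only [Finset.mem_insert, Finset.mem_singleton] at hy
    rcases hy with rfl | rfl
    · exact epsGe_two (not_of_wt wt_x)
    · exact epsGe_two (not_of_wt wt_y)
  · rw [Finset.sum_pair hne]

/-- **The Suzuki group, `p = 5`.** -/
theorem _root_.Cfsg.Agent.H387.K6.suz_five {X : Type v} [Group X] (h : Spor.IsoSuz X) : KRow.{u, v} 5 X := by
  obtain ⟨e⟩ := h
  exact KRow.congr e.symm krow

end Cfsg.Agent.H387.K6.Suz5
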