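import Cfsg.Agent.H468.K6.Tools
import Cfsg.Agent.BpSpor.ThThree
import Cfsg.Agent.KFacts.Th.Main

/-!
# S4876, `p = 3`: the row of the Thompson group (helper387)

Elements of `C(a) = 2^(1+8).A9`: the 3-elements above a 3-cycle (`X3`) and above `(3,3)` (`X33`), both of weight 2, and an
element of order 9. `C(X3)` has 2-rank one, `C(X33)` has not.
-/

set_option autoImplicit false
set_option maxRecDepth 100000
set_option linter.unusedSectionVars false

open Cfsg

namespace Cfsg.Agent.H387.K6.Th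

open Cfsg.Agent.H61.K6 Cfsg.Agent.H121.K6 Cfsg.Agent.H468.K6
open Subgroup
open Cfsg.Agent.Th.Base Cfsg.Agent.Th.Word Cfsg.Agent.Th.RelWords Cfsg.Agent.Th.PermTab
  Cfsg.Agent.Th.KOracle Cfsg.Agent.Th.KPerm Cfsg.Agent.Th.NineAct Cfsg.Agent.Th.CStruct
  Cfsg.Agent.Th.COracleDef Cfsg.Agent.Th.COracleSound Cfsg.Agent.Th.IndexUpper
open Cfsg.Agent.KFacts.Th.Mask Cfsg.Agent.KFacts.Th.Struct
open Cfsg.Agent.CpAutTh.Data Cfsg.Agent.CpAutTh.Alt Cfsg.Agent.CpAutTh.RankOne Cfsg.Agent.CpAutTh.Local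
  Cfsg.Agent.CpAutTh.Mid Cfsg.Agent.CpAutTh.ThreePerm Cfsg.Agent.CpAutTh.ThreeE
open Cfsg.Agent.BpSpor.ThCent

universe u v

/-- a criterion modulo a subgroup of order prime to `p` -/
theorem not_compl_of_ker {p : ℕ} (hp : p.Prime) (hp2 : p ≠ 2) {C : Type*} [Group C] [Finite C] {y n : C} {K : Subgroup C}
    (hK : (Nat.card K).Coprime p) (hm : n * y * n⁻¹ * y ∈ K) (hy : p ∣ orderOf y) : ¬ HasNormalPComplement p C := by
  have : Fact p.Prime := ⟨hp⟩
  rintro ⟨P, N, hN, hc⟩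
  have hcard : Nat.card (C ⧸ N) = Nat.card (P : Subgroup C) := by
    rw [← Subgroup.index_eq_card]
    exact hc.symm.index_eq_card
  obtain ⟨m, hm1⟩ := IsPGroup.iff_card.1 P.isPGroup'
  have hodd : Odd (Nat.card (C ⧸ N)) := by
    rw [hcard, hm1]
    exact (hp.odd_of_ne_two hp2).pow
  have hz : ((n * y * n⁻¹ * y : C) : C ⧸ N) = 1 := by
    set k : K := ⟨n * y * n⁻¹ * y, hm⟩ with hk
    have h1 : orderOf ((k : C) : C ⧸ N) ∣ Nat.card K :=
      (orderOf_map_dvd (QuotientGroup.mk' N) (k : C)).trans (by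
        rw [Subgroup.orderOf_coe]; exact orderOf_dvd_natCard k)
    have h2 : orderOf ((k : C) : C ⧸ N) ∣ p ^ m := by
      rw [← hm1, ← hcard]
      exact orderOf_dvd_natCard _
    exact orderOf_eq_one_iff.1 (Nat.eq_one_of_dvd_coprimes (hK.pow_right m) h1 h2)
  have h1 : ((y : C) : C ⧸ N) = 1 := by
    refine eq_one_of_inv hodd (n := ((n : C) : C ⧸ N)) ?_
    rw [eq_inv_iff_mul_eq_one, ← hz]
    rfl
  have h2 : y ∈ N := (QuotientGroup.eq_one_iff y).1 h1
  have h3 : ¬ p ∣ Nat.card N := by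
    have h4 := P.not_dvd_index
    have h5 : (P : Subgroup C).index = Nat.card N := hc.index_eq_card
    rwa [h5] at h4
  apply h3
  refine hy.trans ?_
  have := orderOf_dvd_natCard (⟨y, h2⟩ : N)
  rwa [Subgroup.orderOf_mk] at this

/-! ### permutations -/

/-- `(0 1)(4 6)` -/
def n3 : Equiv.Perm (Fin 9) := Equiv.swap 0 1 * Equiv.swap 4 6

theorem cg_mem : cg ∈ alternatingGroup (Fin 9) := by rw [Equiv.Perm.mem_alternatingGroup]; exact sign_all.2.1
theorem ug_mem : ug ∈ alternatingGroup (Fin 9) := by rw [Equiv.Perm.mem_alternatingGroup]; exact sign_all.2.2.1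
theorem n3_mem : n3 ∈ alternatingGroup (Fin 9) := by rw [Equiv.Perm.mem_alternatingGroup]; decide +kernel
theorem c9_mem : finRotate 9 ∈ alternatingGroup (Fin 9) := by rw [Equiv.Perm.mem_alternatingGroup]; decide +kernel

theorem ug_cg : ug * cg * ug⁻¹ * cg = 1 := by decide +kernel
theorem n3_cg : n3 * cg * n3⁻¹ * cg = 1 := by decide +kernel
theorem cg_three : cg ^ 3 = 1 := orders.2.1
theorem cg_ne : cg ≠ 1 := by decide +kernel
theorem cg_X3 : cg * pm9 X3 = pm9 X3 * cg := by decide +kernel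
theorem cg_X33 : cg * pm9 X33 = pm9 X33 * cg := by decide +kernel
theorem n3_X3 : n3 * pm9 X3 = pm9 X3 * n3 := by decide +kernel
theorem ug_X33 : ug * pm9 X33 = pm9 X33 * ug := by decide +kernel
theorem c9_three : ¬ finRotate 9 ^ 3 = 1 := by decide +kernel
theorem c9_nine : finRotate 9 ^ 9 = 1 := by decide +kernel

section

variable {G : Type u} [Group G] {γ : ℕ → G} (h : Ctx γ)
  {f : sub γ isC →* alternatingGroup (Fin 9)} (F : Epi γ f)
include h F

theorem wt_of {X : List ℕ} (hX : ∀ x ∈ X, isC x = true) (ho : orderOf (⟨ev γ X, ev_mem_sub hX⟩ : sub γ isC) = 3)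
    {n : Equiv.Perm (Fin 9)} (hn : n ∈ alternatingGroup (Fin 9)) (hc : cg * pm9 X = pm9 X * cg)
    (hnX : n * pm9 X = pm9 X * n) (hi : n * cg * n⁻¹ * cg = 1) : wt 3 (ev γ X) = 2 := by
  have hfin := h.fin
  have hle := le_range h F hX Nat.prime_three (by norm_num) ho
  have hw := F.word X hX
  have hm : ∀ {k : Equiv.Perm (Fin 9)} (hk : k ∈ alternatingGroup (Fin 9)), k * pm9 X = pm9 X * k →
      ∃ c : ↥(centralizer ({sx h hX} : Set ↥(centralizer ({ev γ X} : Set G)))), psi h hX f c = ⟨k, hk⟩ := by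
    intro k hk hkX
    refine hle (x := ⟨k, hk⟩) ?_
    rw [mem_centralizer_singleton_iff]
    apply Subtype.ext
    rw [Subgroup.coe_mul, Subgroup.coe_mul, hw]
    exact hkX
  obtain ⟨y, hy⟩ := hm cg_mem hc
  obtain ⟨m, hm'⟩ := hm hn hnX
  refine wt_eq_two (not_compl_of_ker Nat.prime_three (by norm_num)
    (K := (Q0 γ).subgroupOf (centralizer ({ev γ X} : Set G))) (y := (y : ↥(centralizer ({ev γ X} : Set G))))
    (n := (m : ↥(centralizer ({ev γ X} : Set G)))) ?_ ?_ ?_)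
  · have hQ : IsPGroup 2 ↥(Q0 γ) := IsPGroup.of_card (n := 9) (by rw [h.cardQ]; norm_num)
    have hQ' : IsPGroup 2 ↥((Q0 γ).subgroupOf (centralizer ({ev γ X} : Set G))) := hQ.comap_subtype
    obtain ⟨k, hk⟩ := IsPGroup.iff_card.1 hQ'
    rw [hk]
    exact Nat.Coprime.pow_left _ (by norm_num)
  · rw [mem_subgroupOf]
    have h1 := (mem_ker_psi h F hX (y := m * y * m⁻¹ * y)).1 (by
      rw [MonoidHom.mem_ker, map_mul, map_mul, map_mul, map_inv, hy, hm']
      exact Subtype.ext hi)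
    exact h1
  · have h1 : orderOf (psi h hX f y) = 3 := by
      rw [hy]
      apply orderOf_eq_prime
      · exact Subtype.ext cg_three
      · intro h2
        exact cg_ne (congrArg Subtype.val h2)
    have h2 := orderOf_map_dvd (psi h hX f) y
    rw [h1] at h2
    rwa [Subgroup.orderOf_coe]

theorem wt_X3 : wt 3 (ev γ X3) = 2 := wt_of h F c3 (o3 h F) n3_mem cg_X3 n3_X3 n3_cg

theorem wt_X33 : wt 3 (ev γ X33) = 2 := wt_of h F c33 (o33 h F) ug_mem cg_X33 ug_X33 ug_cg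

theorem ne_X (σ : G ≃* G) : σ (ev γ X33) ≠ ev γ X3 := by
  intro hσ
  have hfin := h.fin
  have h2F : Fact (Nat.Prime 2) := ⟨Nat.prime_two⟩
  have huniq : ∀ u : ↥(centralizer ({ev γ X3} : Set G)), orderOf u = 2 → u * sx h c3 = sx h c3 * u → u = sx h c3 := by
    rintro ⟨u, hu⟩ h1 h2
    apply Subtype.ext
    rw [Subgroup.orderOf_mk] at h1
    exact inv_three h F h1 (congrArg Subtype.val h2) (mem_centralizer_singleton_iff.1 hu)
  have hone := (CpAutTh.RankOne.uInv_of_unique (order_sx h c3) huniq).1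
  have hc0 : cc γ 0 ∈ E γ := c_mem_E h (Or.inl rfl)
  have hc0a : cc γ 0 * γ 1 = γ 1 * cc γ 0 := (h.Q_comm (E_le h hc0)).symm
  have hc02 : orderOf (cc γ 0) = 2 := by
    refine orderOf_eq_prime (by rw [pow_two]; exact h.data.cc 0) ?_
    intro h1
    have h2 := mask_c h.data 0
    rw [h1] at h2
    exact absurd (unique h.data h2 (mask_one h.data)) (by decide +kernel)
  have hc0ne : cc γ 0 ≠ γ 1 := by
    intro h1
    have h2 := mask_c h.data 0
    rw [h1] at h2
    exact absurd (unique h.data h2 (mask_a h.data)) (by decide +kernel)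
  have ha2 : orderOf (γ 1) = 2 := orderOf_eq_prime (by rw [pow_two]; exact h.aa) h.a1
  have hax : γ 1 * ev γ X33 = ev γ X33 * γ 1 := (h.mem_C.1 (ev_mem_sub c33)).symm
  have hcx : cc γ 0 * ev γ X33 = ev γ X33 * cc γ 0 := mem_centralizer_singleton_iff.1 hc0.2
  have hmem : ∀ {g : G}, g * ev γ X33 = ev γ X33 * g → σ g ∈ centralizer ({ev γ X3} : Set G) := by
    intro g hg
    rw [mem_centralizer_singleton_iff, ← hσ, ← map_mul, ← map_mul, hg]
  have h1 := hone ⟨σ (cc γ 0), hmem hcx⟩ ⟨σ (γ 1), hmem hax⟩ (by rw [Subgroup.orderOf_mk, MulEquiv.orderOf_eq, hc02])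
    (by rw [Subgroup.orderOf_mk, MulEquiv.orderOf_eq, ha2]) (Subtype.ext (by
      show σ (cc γ 0) * σ (γ 1) = σ (γ 1) * σ (cc γ 0)
      rw [← map_mul σ, ← map_mul σ, hc0a]))
  exact hc0ne (σ.injective (congrArg Subtype.val h1))

theorem exists_nine : ∃ y : G, orderOf y = 3 ^ 2 := by
  have hfin := h.fin
  have := finC h
  obtain ⟨y, hy⟩ := F.surj ⟨finRotate 9, c9_mem⟩
  have h3 : Fact (Nat.Prime 3) := ⟨Nat.prime_three⟩
  have h9 : orderOf (f y) = 3 ^ 2 := by
    rw [hy]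
    refine orderOf_eq_prime_pow (n := 1) ?_ ?_
    · intro h1
      have h2 := congrArg Subtype.val h1
      rw [Subgroup.coe_pow, Subgroup.coe_one, pow_one, Subgroup.coe_mk] at h2
      exact c9_three h2
    · apply Subtype.ext
      rw [Subgroup.coe_pow, Subgroup.coe_one, Subgroup.coe_mk]
      exact c9_nine
  have h1 : 3 ^ 2 ∣ orderOf y := by
    rw [← h9]
    exact orderOf_map_dvd f y
  obtain ⟨k, hk⟩ := h1
  have hpos : 0 < orderOf y := orderOf_pos y
  have hk0 : k ≠ 0 := by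
    rintro rfl
    rw [mul_zero] at hk
    omega
  refine ⟨((y ^ k : sub γ isC) : G), ?_⟩
  rw [Subgroup.orderOf_coe, orderOf_pow_of_dvd hk0 (hk ▸ dvd_mul_left k _), hk,
    Nat.mul_div_cancel _ (Nat.pos_of_ne_zero hk0)]

end

theorem krow : KRow.{u, 0} 3 Spor.Th := by
  have h : Ctx gTh := Cfsg.Agent.KFacts.Th.Main.ctx
  have := h.fin
  obtain ⟨f, F⟩ := exists_epi h
  have hf : Fact (Nat.Prime 3) := ⟨Nat.prime_three⟩
  have hs : IsSimpleGroup Spor.Th := Cfsg.Agent.Th.Main1700.isTh.1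
  have h3 : orderOf (ev gTh X3) = 3 := by
    have := o3 h F
    rwa [Subgroup.orderOf_mk] at this
  have h33 : orderOf (ev gTh X33) = 3 := by
    have := o33 h F
    rwa [Subgroup.orderOf_mk] at this
  obtain ⟨y, hy⟩ := exists_nine h F
  have hna : ∃ a b : Spor.Th, a * b ≠ b * a := by
    obtain ⟨a, ha⟩ := F.surj ⟨ug, ug_mem⟩
    obtain ⟨b, hb⟩ := F.surj ⟨cg, cg_mem⟩
    refine ⟨a, b, fun hab => ?_⟩
    have h1 : a * b = b * a := Subtype.ext hab
    have h2 := congrArg f h1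
    rw [map_mul, map_mul, ha, hb] at h2
    exact absurd (congrArg Subtype.val h2) (by show ¬ ug * cg = cg * ug; decide +kernel)
  refine krow_three (c := y) (not_compl_of_simple hna (by rw [h.card]; norm_num))
    (el_of_prime Nat.prime_three h33) (el_of_prime Nat.prime_three h3)
    (el_of_order (k := 2) Nat.prime_three (by norm_num) hy) (ne_X h F)
    (ne_of_order (by rw [h33, hy]; norm_num)) (ne_of_order (by rw [h3, hy]; norm_num))
    (na := 2) (nb := 2) (nc := 1) ?_ ?_ (wtGe_one _) (by norm_num)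
  · rw [← wt_X33 h F]
    exact wtGe_wt _
  · rw [← wt_X3 h F]
    exact wtGe_wt _

/-- **`Th`, `p = 3`.** -/
theorem _root_.Cfsg.Agent.H387.K6.th_three {X : Type v} [Group X] (h : Spor.IsoTh X) : KRow.{u, v} 3 X := by
  obtain ⟨e⟩ := h
  exact KRow.congr e.symm krow

end Cfsg.Agent.H387.K6.Th
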